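import Mathlib
import Cfsg.Prelude.Def_Local
import Cfsg.Agent.Lib.Layer2

/-! The pointwise stabilizer of four points in a large alternating group is standard. -/

set_option autoImplicit false

namespace CfsgLib.AltStd

open Cfsg Equiv

variable {α : Type*} [Fintype α] [DecidableEq α]

/-- even permutations fixing `S` pointwise -/
def fixS (S : Finset α) : Subgroup (alternatingGroup α) where
  carrier := {g | ∀ x ∈ S, (g : Perm α) x = x}
  one_mem' := fun x _ => rfl
  mul_mem' := fun {g h} hg hh x hx => by
    show (g : Perm α) ((h : Perm α) x) = x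
    rw [hh x hx, hg x hx]
  inv_mem' := fun {g} hg x hx => Perm.inv_eq_iff_eq.mpr (hg x hx).symm

theorem quasisimple_fixS {S : Finset α} (h : 5 ≤ Sᶜ.card) : IsQuasisimple (fixS S) := by
  let T := {x : α // x ∉ S}
  have hT : 5 ≤ Nat.card T := by
    rw [Nat.card_eq_fintype_card, Fintype.card_subtype]
    convert h using 2
    ext x; simp
  let f : alternatingGroup T →* ↥(fixS S) :=
    { toFun := fun σ => ⟨⟨Perm.ofSubtype (σ : Perm T), by
        rw [Perm.mem_alternatingGroup, Perm.sign_ofSubtype]; exact Perm.mem_alternatingGroup.mp σ.2⟩,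
        fun x hx => Perm.ofSubtype_apply_of_not_mem (σ : Perm T) (by simpa using hx)⟩
      map_one' := Subtype.ext (Subtype.ext (map_one Perm.ofSubtype))
      map_mul' := fun a b => Subtype.ext (Subtype.ext (map_mul Perm.ofSubtype _ _)) }
  have hf : Function.Bijective f := by
    refine ⟨fun a b hab => Subtype.ext (Perm.ofSubtype_injective
      (congrArg (fun w : ↥(fixS S) => ((w : alternatingGroup α) : Perm α)) hab)), fun g => ?_⟩
    have h1 : ∀ x, ((g : alternatingGroup α) : Perm α) x ∉ S ↔ x ∉ S := by
      intro x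
      refine not_congr ⟨fun hx => ?_, fun hx => ?_⟩
      · have := ((g : alternatingGroup α) : Perm α).injective (g.2 _ hx)
        rwa [this] at hx
      · rwa [g.2 x hx]
    have h2 : Perm.ofSubtype (Perm.subtypePerm ((g : alternatingGroup α) : Perm α) h1) =
        ((g : alternatingGroup α) : Perm α) :=
      Perm.ofSubtype_subtypePerm _ (fun x hx hxS => hx (g.2 x hxS))
    have hmem : Perm.subtypePerm ((g : alternatingGroup α) : Perm α) h1 ∈ alternatingGroup T := by
      rw [Perm.mem_alternatingGroup]
      have h3 := (g : alternatingGroup α).2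
      rw [Perm.mem_alternatingGroup, ← h2, Perm.sign_ofSubtype] at h3
      convert h3 using 3
    refine ⟨⟨_, hmem⟩, Subtype.ext (Subtype.ext ?_)⟩
    show Perm.ofSubtype _ = _
    convert h2
  refine CfsgLib.Layer2.isQuasisimple_of_equiv (MulEquiv.ofBijective f hf) ?_
  haveI := alternatingGroup.isSimpleGroup (α := T) hT
  haveI : Nontrivial (alternatingGroup T) := IsSimpleGroup.toNontrivial
  have hc : Subgroup.center (alternatingGroup T) = ⊥ :=
    alternatingGroup.center_eq_bot (by omega)
  refine ⟨Group.isPerfect_def.mpr ?_, ?_⟩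
  · rcases IsSimpleGroup.eq_bot_or_eq_top_of_normal (commutator (alternatingGroup T)) inferInstance with h1 | h1
    · exfalso
      have := (commutator_eq_bot_iff_center_eq_top _).mp h1
      rw [hc] at this
      exact bot_ne_top this
    · exact h1
  · let e : alternatingGroup T ≃* alternatingGroup T ⧸ Subgroup.center (alternatingGroup T) :=
      MulEquiv.ofBijective (QuotientGroup.mk' _) ⟨by
        rw [← MonoidHom.ker_eq_bot_iff, QuotientGroup.ker_mk', hc], QuotientGroup.mk'_surjective _⟩
    haveI : Nontrivial (alternatingGroup T ⧸ Subgroup.center (alternatingGroup T)) := e.symm.toEquiv.nontrivial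
    exact IsSimpleGroup.isSimpleGroup_of_surjective e.toMonoidHom e.surjective

theorem three_mem (a b c : α) (hab : a ≠ b) (hbc : b ≠ c) :
    swap a b * swap b c ∈ alternatingGroup α := by
  rw [Perm.mem_alternatingGroup, map_mul, Perm.sign_swap hab, Perm.sign_swap hbc]; rfl

theorem mem_centralizer_fixS {S : Finset α} (h : 5 ≤ Sᶜ.card) (g : alternatingGroup α) :
    g ∈ Subgroup.centralizer (fixS S : Set (alternatingGroup α)) ↔ ∀ x ∉ S, (g : Perm α) x = x := by
  constructor
  · intro hg x hx
    obtain ⟨a, ha, b, hb, hab⟩ := (Finset.one_lt_card (s := Sᶜ.erase x)).mp (by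
      rw [Finset.card_erase_of_mem (by simpa using hx)]; omega)
    obtain ⟨c, hc, d, hd, hcd⟩ := (Finset.one_lt_card (s := ((Sᶜ.erase x).erase a).erase b)).mp (by
      rw [Finset.card_erase_of_mem (by simp_all [Ne.symm hab]), Finset.card_erase_of_mem ha,
        Finset.card_erase_of_mem (by simpa using hx)]
      omega)
    simp only [Finset.mem_erase, Finset.mem_compl] at ha hb hc hd
    have key : ∀ u v, u ≠ x → v ≠ x → u ≠ v → u ∉ S → v ∉ S →
        (g : Perm α) x = x ∨ (g : Perm α) x = u ∨ (g : Perm α) x = v := by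
      intro u v hux hvx huv hu hv
      have hmem : (⟨_, three_mem x u v (Ne.symm hux) huv⟩ : alternatingGroup α) ∈ fixS S := by
        intro y hy
        have h1 : y ≠ x := fun e => hx (e ▸ hy)
        have h2 : y ≠ u := fun e => hu (e ▸ hy)
        have h3 : y ≠ v := fun e => hv (e ▸ hy)
        show (swap x u * swap u v) y = y
        simp [swap_apply_of_ne_of_ne, h1, h2, h3]
      have hcom := congrArg (fun w : alternatingGroup α => (w : Perm α) x)
        (Subgroup.mem_centralizer_iff.mp hg _ hmem)
      simp only [Subgroup.coe_mul, Perm.mul_apply] at hcom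
      by_contra hno
      push Not at hno
      rw [swap_apply_of_ne_of_ne hno.2.1 hno.2.2, swap_apply_of_ne_of_ne hno.1 hno.2.1,
        swap_apply_of_ne_of_ne (Ne.symm hux) (Ne.symm hvx), swap_apply_left] at hcom
      exact hux ((g : Perm α).injective hcom).symm
    rcases key a b ha.1 hb.1 hab ha.2 hb.2 with h1 | h1 | h1 <;>
      rcases key c d hc.2.2.1 hd.2.2.1 hcd hc.2.2.2 hd.2.2.2 with h2 | h2 | h2 <;> aesop
  · intro hg
    refine Subgroup.mem_centralizer_iff.mpr fun k hk => Subtype.ext (Perm.ext fun x => ?_)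
    simp only [Subgroup.coe_mul, Perm.mul_apply]
    by_cases hx : x ∈ S
    · have hgx : (g : Perm α) x ∈ S := by
        by_contra hgx
        have := (g : Perm α).injective (hg _ hgx)
        exact hgx (this.symm ▸ hx)
      rw [hk x hx, hk _ hgx]
    · have hkx : (k : Perm α) x ∉ S := fun hkx => hx (by
        have := (k : Perm α).injective (hk _ hkx)
        rwa [this] at hkx)
      rw [hg x hx, hg _ hkx]

theorem exists_moving {S : Finset α} (h : 5 ≤ Sᶜ.card) {x : α} (hx : x ∉ S) :
    ∃ k ∈ fixS S, (k : Perm α) x ≠ x := by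
  obtain ⟨a, ha, b, hb, hab⟩ := (Finset.one_lt_card (s := Sᶜ.erase x)).mp (by
    rw [Finset.card_erase_of_mem (by simpa using hx)]; omega)
  simp only [Finset.mem_erase, Finset.mem_compl] at ha hb
  refine ⟨⟨_, three_mem x a b (Ne.symm ha.1) hab⟩, fun y hy => ?_, ?_⟩
  · have h1 : y ≠ x := fun e => hx (e ▸ hy)
    have h2 : y ≠ a := fun e => ha.2 (e ▸ hy)
    have h3 : y ≠ b := fun e => hb.2 (e ▸ hy)
    show (swap x a * swap a b) y = y
    simp [swap_apply_of_ne_of_ne, h1, h2, h3]
  · show (swap x a * swap a b) x ≠ x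
    simp [swap_apply_of_ne_of_ne, Ne.symm ha.1, Ne.symm hb.1, ha.1]

theorem standard_fixS {S : Finset α} (hS : S.card = 4) (h9 : 9 ≤ Fintype.card α) :
    IsStandardSubgroup (fixS S) := by
  have h : 5 ≤ Sᶜ.card := by rw [Finset.card_compl, hS]; omega
  set C := Subgroup.centralizer (fixS S : Set (alternatingGroup α))
  have hC : ∀ g, g ∈ C ↔ ∀ x ∉ S, (g : Perm α) x = x := mem_centralizer_fixS h
  -- an element of `C` moving a given point of `S`
  have hdt : ∀ x ∈ S, ∃ c ∈ C, (c : Perm α) x ≠ x ∧ orderOf c = 2 := by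
    intro x hx
    obtain ⟨a, b, c, d, hab, hac, had, hbc, hbd, hcd, hS'⟩ := Finset.card_eq_four.mp hS
    refine ⟨⟨swap a b * swap c d, by
      rw [Perm.mem_alternatingGroup, map_mul, Perm.sign_swap hab, Perm.sign_swap hcd]; rfl⟩,
      (hC _).mpr fun y hy => ?_, ?_, ?_⟩
    · simp only [hS', Finset.mem_insert, Finset.mem_singleton, not_or] at hy
      show (swap a b * swap c d) y = y
      simp [swap_apply_of_ne_of_ne, hy.1, hy.2.1, hy.2.2.1, hy.2.2.2]
    · simp only [hS', Finset.mem_insert, Finset.mem_singleton] at hx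
      show (swap a b * swap c d) x ≠ x
      rcases hx with rfl | rfl | rfl | rfl <;>
        simp [swap_apply_of_ne_of_ne, hab, hac, had, hbc, hbd, hcd, hab.symm, hac.symm, had.symm,
          hbc.symm, hbd.symm, hcd.symm]
    · refine orderOf_eq_prime ?_ ?_
      · refine Subtype.ext (Perm.ext fun y => ?_)
        simp only [pow_two, Subgroup.coe_mul, OneMemClass.coe_one, Perm.mul_apply, Perm.one_apply, swap_apply_def]
        split_ifs <;> simp_all
      · intro h1
        have h2 := congrArg (fun w : alternatingGroup α => (w : Perm α) a) h1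
        simp [swap_apply_of_ne_of_ne, hac, had] at h2
        exact hab h2.symm
  have hmapmem : ∀ (g w : alternatingGroup α) (K : Subgroup (alternatingGroup α)),
      w ∈ K.map (MulAut.conj g).toMonoidHom ↔ g⁻¹ * w * g ∈ K := by
    intro g w K
    constructor
    · rintro ⟨k, hk, rfl⟩; simpa [mul_assoc] using hk
    · intro hk; exact ⟨_, hk, by simp [mul_assoc]⟩
  have hinv : ∀ (g : alternatingGroup α) (x : α), (g : Perm α) (((g⁻¹ : alternatingGroup α) : Perm α) x) = x :=
    fun g x => by simp
  -- normalizers
  have hset : ∀ g, g ∈ Subgroup.normalizer (C : Set (alternatingGroup α)) → ∀ x, (g : Perm α) x ∈ S ↔ x ∈ S := by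
    intro g hg
    have hfwd : ∀ g ∈ Subgroup.normalizer (C : Set (alternatingGroup α)), ∀ x ∈ S, (g : Perm α) x ∈ S := by
      intro g hg x hx
      obtain ⟨c, hc, hcx, -⟩ := hdt x hx
      by_contra hgx
      have h1 := (hC _).mp ((Subgroup.mem_normalizer_iff.mp hg c).mp hc) _ hgx
      simp at h1
      exact hcx h1
    intro x
    refine ⟨fun hx => ?_, hfwd g hg x⟩
    have := hfwd g⁻¹ (inv_mem hg) _ hx
    simpa using this
  have hnorm : Subgroup.normalizer (fixS S : Set (alternatingGroup α)) =
      Subgroup.normalizer (C : Set (alternatingGroup α)) := by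
    refine le_antisymm (fun g hg => Subgroup.mem_normalizer_iff.mpr fun c => ?_) fun g hg => ?_
    · constructor
      · intro hc
        refine Subgroup.mem_centralizer_iff.mpr fun k hk => ?_
        have h1 := Subgroup.mem_centralizer_iff.mp hc _ ((Subgroup.mem_normalizer_iff''.mp hg k).mp hk)
        calc k * (g * c * g⁻¹) = g * ((g⁻¹ * k * g) * c) * g⁻¹ := by group
          _ = g * (c * (g⁻¹ * k * g)) * g⁻¹ := by rw [h1]
          _ = g * c * g⁻¹ * k := by group
      · intro hc
        refine Subgroup.mem_centralizer_iff.mpr fun k hk => ?_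
        have h1 := Subgroup.mem_centralizer_iff.mp hc _ ((Subgroup.mem_normalizer_iff.mp hg k).mp hk)
        calc k * c = g⁻¹ * ((g * k * g⁻¹) * (g * c * g⁻¹)) * g := by group
          _ = g⁻¹ * ((g * c * g⁻¹) * (g * k * g⁻¹)) * g := by rw [h1]
          _ = c * k := by group
    · have hs := hset g hg
      refine Subgroup.mem_normalizer_iff.mpr fun k => ⟨fun hk x hx => ?_, fun hk x hx => ?_⟩
      · have hx' : ((g⁻¹ : alternatingGroup α) : Perm α) x ∈ S := (hs _).mp (by rwa [hinv])
        simp only [Subgroup.coe_mul, Perm.mul_apply]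
        rw [hk _ hx', hinv]
      · have := hk _ ((hs x).mpr hx)
        simpa using this
  refine ⟨quasisimple_fixS h, ⟨?_, fun g hg => ?_⟩, fun g hg hcomm => ?_, hnorm⟩
  · obtain ⟨x, hx⟩ := Finset.card_pos.mp (by omega : 0 < S.card)
    obtain ⟨c, hc, -, ho⟩ := hdt x hx
    rw [even_iff_two_dvd, ← ho]
    exact Subgroup.orderOf_dvd_natCard _ hc
  · by_contra hev
    obtain ⟨w, hw⟩ := exists_prime_orderOf_dvd_card'
      (G := ↥(C ⊓ C.map (MulAut.conj g).toMonoidHom)) 2 (even_iff_two_dvd.mp (Nat.not_odd_iff_even.mp hev))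
    have hw1 := (hC _).mp w.2.1
    have hw2 := (hC _).mp ((hmapmem _ _ _).mp w.2.2)
    obtain ⟨x, hxS, hgx⟩ : ∃ x ∈ S, (g : Perm α) x ∉ S := by
      by_contra hno
      push Not at hno
      apply hg
      rw [← hnorm]
      have hs : ∀ x, (g : Perm α) x ∈ S ↔ x ∈ S := by
        intro x
        refine ⟨fun hx => ?_, hno x⟩
        have heq : S.image (g : Perm α) = S := Finset.eq_of_subset_of_card_le
          (Finset.image_subset_iff.mpr hno) (by rw [Finset.card_image_of_injective _ (Equiv.injective _)])
        obtain ⟨y, hy, hyx⟩ := Finset.mem_image.mp (heq.symm ▸ hx)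
        rwa [← (g : Perm α).injective hyx]
      refine Subgroup.mem_normalizer_iff.mpr fun k => ⟨fun hk x hx => ?_, fun hk x hx => ?_⟩
      · have hx' : ((g⁻¹ : alternatingGroup α) : Perm α) x ∈ S := (hs _).mp (by rwa [hinv])
        simp only [Subgroup.coe_mul, Perm.mul_apply]
        rw [hk _ hx', hinv]
      · have := hk _ ((hs x).mpr hx)
        simpa using this
    obtain ⟨y, hyS, hy⟩ : ∃ y ∈ S, ∀ z ∈ S, ((w : alternatingGroup α) : Perm α) z ≠ z → z ≠ y := by
      -- a point of `S` outside the image of `S`
      have hne : ¬ S ⊆ S.image (g : Perm α) := fun hsub => by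
        have := Finset.eq_of_subset_of_card_le hsub (by rw [Finset.card_image_of_injective _ (Equiv.injective _)])
        exact hgx (this ▸ Finset.mem_image_of_mem _ hxS)
      obtain ⟨y, hy, hyn⟩ := Finset.not_subset.mp hne
      refine ⟨y, hy, fun z _ hz hzy => hz ?_⟩
      subst hzy
      have hz' : ((g⁻¹ : alternatingGroup α) : Perm α) z ∉ S := fun hh =>
        hyn (Finset.mem_image.mpr ⟨_, hh, hinv g z⟩)
      have := hw2 _ hz'
      simpa using this
    set σ : Perm α := ((w : alternatingGroup α) : Perm α)
    have hsupp : σ.support ⊆ S.erase y := fun z hz => by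
      rw [Perm.mem_support] at hz
      have hzS : z ∈ S := by
        by_contra hzS; exact hz (hw1 z hzS)
      exact Finset.mem_erase.mpr ⟨hy z hzS hz, hzS⟩
    have hcard : σ.support.card ≤ 3 := by
      have := Finset.card_le_card hsupp
      rw [Finset.card_erase_of_mem hyS] at this; omega
    have hσ2 : orderOf σ = 2 := by
      rw [Subgroup.orderOf_coe, Subgroup.orderOf_coe]; exact hw
    obtain ⟨n, hn⟩ := Perm.cycleType_prime_order (by rw [hσ2]; exact Nat.prime_two)
    rw [hσ2] at hn
    have hsum := Perm.sum_cycleType σ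
    rw [hn, Multiset.sum_replicate, smul_eq_mul] at hsum
    have hsign : Perm.sign σ = 1 := Perm.mem_alternatingGroup.mp (w : alternatingGroup α).2
    rw [Perm.sign_of_cycleType, hn, Multiset.sum_replicate, Multiset.card_replicate, smul_eq_mul,
      show n = 0 by omega] at hsign
    exact absurd hsign (by decide)
  · -- a commuting conjugate
    rw [Subgroup.commutator_eq_bot_iff_le_centralizer] at hcomm
    have hle : (fixS S).map (MulAut.conj g).toMonoidHom ≤ C := fun k hk =>
      Subgroup.mem_centralizer_iff.mpr fun a ha => (Subgroup.mem_centralizer_iff.mp (hcomm ha) k hk).symm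
    have hsub : (S.image (g : Perm α))ᶜ ⊆ S := by
      intro x hx
      rw [Finset.mem_compl, Finset.mem_image] at hx
      push Not at hx
      by_contra hxS
      obtain ⟨k, hk, hkx⟩ := exists_moving h (x := ((g⁻¹ : alternatingGroup α) : Perm α) x)
        (fun hh => hx _ hh (hinv g x))
      have h1 := (hC _).mp (hle ⟨k, hk, rfl⟩) x hxS
      simp at h1
      apply hkx
      apply (g : Perm α).injective
      simpa using h1
    have := Finset.card_le_card hsub
    rw [Finset.card_compl, Finset.card_image_of_injective _ (Equiv.injective _), hS] at this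
    omega

end CfsgLib.AltStd
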